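import Cfsg.Agent.Bender.KeyCount
import Cfsg.Agent.Bender.LemX
import Cfsg.Agent.Char.IndChar
import Cfsg.Agent.Char.Degree
import Cfsg.Agent.Char.Eigen
import Cfsg.Agent.Char.Linear

/-!
A transitive group with a regular abelian TI-subgroup whose normaliser is a Frobenius group is
doubly transitive or acts as that normaliser.
-/

set_option autoImplicit false

namespace Cfsg.Lib.Bender

open MulAction Cfsg.Lib.Char
open scoped ComplexConjugate

section

variable {Γ : Type*} [Group Γ] {K N : Subgroup Γ}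

/-- conjugation by an element of `N` on `K` -/
def keyCj (hnorm : ∀ n ∈ N, ∀ k ∈ K, n * k * n⁻¹ ∈ K) (x : N) : K ≃* K where
  toFun k := ⟨x * k * (x : Γ)⁻¹, hnorm _ x.2 _ k.2⟩
  invFun k := ⟨(x : Γ)⁻¹ * k * (x : Γ)⁻¹⁻¹, hnorm _ (N.inv_mem x.2) _ k.2⟩
  left_inv k := Subtype.ext (by simp [mul_assoc])
  right_inv k := Subtype.ext (by simp [mul_assoc])
  map_mul' a b := Subtype.ext (by simp [mul_assoc])

end

variable {Γ X : Type*} [Group Γ] [MulAction Γ X] [Finite X]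

theorem keyChar_core' [Fintype Γ] (K N : Subgroup Γ) (hKN : K ≤ N)
    (hcomm : ∀ a ∈ K, ∀ b ∈ K, a * b = b * a) (hreg : ∀ x y : X, ∃! k, k ∈ K ∧ k • x = y) (s : X)
    (hnorm : ∀ n ∈ N, ∀ k ∈ K, n * k * n⁻¹ ∈ K)
    (hTI : ∀ g : Γ, ∀ k ∈ K, k ≠ 1 → g * k * g⁻¹ ∈ K → g ∈ N)
    (hfpf : ∀ v ∈ N, v • s = s → ∀ k ∈ K, v * k = k * v → v = 1 ∨ k = 1) :
    (∑ g : Γ, Nat.card (fixedBy X g) ^ 2 ≤ 2 * Nat.card Γ) ∨
      ∃ n : ℕ, (∑ g : Γ, Nat.card (fixedBy X g) ^ 2 = (1 + n) * Nat.card Γ) ∧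
        (Nat.card K - 1) * Nat.card K ≤ n * Nat.card N ∧
        ∀ g : Γ, (∀ x : Γ, x * g * x⁻¹ ∉ K) → ∃ y : X, g • y = y := by
  classical
  have hfree : ∀ k ∈ K, ∀ x : X, k • x = x → k = 1 := fun k hk x hx =>
    (hreg x x).unique ⟨hk, hx⟩ ⟨K.one_mem, one_smul _ _⟩
  have hq : Nat.card X = Nat.card K := (Nat.card_congr (Equiv.ofBijective
    (fun k : K => (k : Γ) • s) ⟨fun k k' h => Subtype.ext
      ((hreg s _).unique ⟨k.2, h⟩ ⟨k'.2, rfl⟩), fun x => by
        obtain ⟨k, ⟨hk, e⟩, -⟩ := hreg s x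
        exact ⟨⟨k, hk⟩, e⟩⟩)).symm
  have hKc : ∀ a b : K, a * b = b * a := fun a b => Subtype.ext (hcomm _ a.2 _ b.2)
  have hK0 : (Nat.card K : ℂ) ≠ 0 := card_ne_zero K
  have hl1 : ∀ l : IrrCharacter K, (l : K → ℂ) 1 = 1 := fun l => l.2.apply_one_of_comm hKc
  let π : Γ → ℂ := fun g => (Nat.card (fixedBy X g) : ℂ)
  have hπ1 : π 1 = Nat.card K := by simp [π, hq]
  obtain ⟨c, hc⟩ := (isCharacter_card_fixedBy Γ X).exists_nat_coeff
  replace hc : π = ∑ χ : IrrCharacter Γ, (c χ : ℂ) • (χ : Γ → ℂ) := hc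
  have hm : ∀ (χ : IrrCharacter Γ) (l : IrrCharacter K),
      ∃ m : ℕ, classInner (fun k : K => (χ : Γ → ℂ) k) (l : K → ℂ) = m := fun χ l =>
    (χ.2.isCharacter.res K).exists_nat_classInner l.2.isCharacter
  choose m hm using hm
  have hm' : ∀ (χ : IrrCharacter Γ) (l : IrrCharacter K),
      classInner (l : K → ℂ) (fun k : K => (χ : Γ → ℂ) k) = m χ l := fun χ l => by
    rw [← conj_classInner, hm, map_natCast]
  have hsum : ∀ l, ∑ χ, c χ * m χ l = 1 := fun l => by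
    have e1 : classInner (fun k : K => π k) (l : K → ℂ) = 1 := by
      rw [classInner, Finset.sum_eq_single 1]
      · simp [hπ1, hl1, hK0]
      · intro k _ hk
        have : IsEmpty (fixedBy X (k : Γ)) :=
          ⟨fun y => hk (Subtype.ext (hfree _ k.2 _ y.2))⟩
        simp only [π, Nat.card_of_isEmpty, Nat.cast_zero, zero_mul]
      · simp
    have e2 : (fun k : K => π k) = ∑ χ : IrrCharacter Γ, (c χ : ℂ) • fun k : K => (χ : Γ → ℂ) k := by
      ext k
      simp [hc]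
    rw [e2, classInner_sum_left] at e1
    simp only [classInner_smul_left, hm] at e1
    exact_mod_cast e1
  have hU : ∀ χ l, c χ ≠ 0 → m χ l ≠ 0 → c χ = 1 ∧ m χ l = 1 := fun χ l h1 h2 => by
    have : c χ * m χ l ≤ 1 := hsum l ▸
      Finset.single_le_sum (f := fun χ => c χ * m χ l) (fun _ _ => Nat.zero_le _) (Finset.mem_univ χ)
    have h3 := Nat.pos_of_ne_zero h1
    have h4 := Nat.pos_of_ne_zero h2
    constructor <;> nlinarith
  have hU' : ∀ χ χ' l, χ ≠ χ' → c χ ≠ 0 → c χ' ≠ 0 → m χ l ≠ 0 → m χ' l = 0 :=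
    fun χ χ' l hne h1 h2 h3 => by
    by_contra h4
    have : ∑ x ∈ {χ, χ'}, c x * m x l ≤ 1 := hsum l ▸
      Finset.sum_le_sum_of_subset (Finset.subset_univ _)
    rw [Finset.sum_pair hne, (hU χ l h1 h3).1, (hU χ l h1 h3).2, (hU χ' l h2 h4).1,
      (hU χ' l h2 h4).2] at this
    omega
  have hex : ∀ χ, ∃ l, m χ l ≠ 0 := fun χ => by
    obtain ⟨θ, h1, h2⟩ := exists_irr_under K χ.2
    exact ⟨⟨θ, h1⟩, fun h => h2 ((hm χ ⟨θ, h1⟩).trans (by rw [h, Nat.cast_zero]))⟩
  have hc1 : ∀ χ, c χ ≠ 0 → c χ = 1 := fun χ h => (hU χ _ h (hex χ).choose_spec).1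
  let one : IrrCharacter Γ := ⟨fun _ => 1, isIrrCharacter_one⟩
  let oneK : IrrCharacter K := ⟨fun _ => 1, isIrrCharacter_one⟩
  have hone : c one ≠ 0 := fun h => by
    have e := classInner_sum_smul_irr (fun χ => (c χ : ℂ)) one
    rw [← hc, h, Nat.cast_zero] at e
    have e' := card_mul_classInner π one
    rw [e, mul_zero] at e'
    simp only [one, map_one, mul_one, π] at e'
    have e'' : ∑ g : Γ, Nat.card (fixedBy X g) = 0 := by exact_mod_cast e'.symm
    have := (Finset.sum_eq_zero_iff.1 e'') 1 (Finset.mem_univ _)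
    rw [← Nat.cast_inj (R := ℂ), Nat.cast_zero] at this
    exact hK0 (hπ1.symm.trans this)
  have hmone : m one oneK ≠ 0 := fun h => by
    have := hm one oneK
    rw [h] at this
    exact one_ne_zero ((classInner_one_one (G := K)).symm.trans (this.trans Nat.cast_zero))
  let T : Finset (IrrCharacter Γ) := Finset.univ.filter fun χ => c χ ≠ 0 ∧ χ ≠ one
  have memT : ∀ χ, χ ∈ T ↔ c χ ≠ 0 ∧ χ ≠ one := fun χ => by simp [T]
  have hsplit : ∀ f : IrrCharacter Γ → ℂ, ∑ χ, (c χ : ℂ) * f χ = f one + ∑ χ ∈ T, f χ :=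
    fun f => by
    rw [← Finset.sum_insert (s := T) (a := one) (by simp [memT]), eq_comm,
      ← Finset.sum_subset (Finset.subset_univ (insert one T))]
    · refine Finset.sum_congr rfl fun χ hχ => ?_
      rw [hc1 χ ?_, Nat.cast_one, one_mul]
      rcases Finset.mem_insert.1 hχ with rfl | h
      exacts [hone, ((memT χ).1 h).1]
    · intro χ _ hχ
      rw [Finset.mem_insert, memT] at hχ
      have : c χ = 0 := by tauto
      rw [this, Nat.cast_zero, zero_mul]
  have hπ : ∀ g, π g = 1 + ∑ χ ∈ T, (χ : Γ → ℂ) g := fun g => by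
    rw [hc, Finset.sum_apply]
    exact hsplit fun χ => (χ : Γ → ℂ) g
  have hsq : ∑ g : Γ, Nat.card (fixedBy X g) ^ 2 = (1 + T.card) * Nat.card Γ := by
    have e1 : classInner π π = 1 + T.card := by
      conv_lhs => rw [hc, classInner_sum_right]
      simp only [classInner_smul_right, classInner_sum_smul_irr, map_natCast]
      rw [hsplit, hc1 _ hone, Finset.sum_congr rfl (g := fun _ => (1 : ℂ))
        fun χ hχ => by rw [hc1 _ ((memT χ).1 hχ).1, Nat.cast_one]]
      simp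
    have e2 := card_mul_classInner π π
    rw [e1] at e2
    simp only [π, map_natCast, ← pow_two] at e2
    rw [mul_comm]
    exact_mod_cast e2.symm
  by_cases hT : T.card ≤ 1
  · left
    rw [hsq]
    exact Nat.mul_le_mul_right _ (by omega)
  right
  let tw : N → IrrCharacter K → IrrCharacter K := fun x l =>
    ⟨fun k => (l : K → ℂ) (keyCj hnorm x k), l.2.comp_equiv _⟩
  have htw : ∀ χ x l, m χ (tw x l) = m χ l := fun χ x l => by
    rw [← Nat.cast_inj (R := ℂ), ← hm, ← hm, ← classInner_comp_equiv (keyCj hnorm x) _ (l : K → ℂ)]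
    congr 1
    ext k
    exact (χ.2.isClassFunction k x).symm
  have hstab : ∀ l, l ≠ oneK → ∀ x, tw x l = l ↔ (x : Γ) ∈ K := fun l hl x => by
    have hin : ∀ y : N, (y : Γ) ∈ K → ∀ k, keyCj hnorm y k = k := fun y hy k =>
      Subtype.ext (by
        change (y : Γ) * k * (y : Γ)⁻¹ = k
        rw [hcomm _ hy _ k.2, mul_inv_cancel_right])
    refine ⟨fun h => ?_, fun h => Subtype.ext (funext fun k => congrArg _ (hin x h k))⟩
    obtain ⟨k0, ⟨hk0, e⟩, -⟩ := hreg (x • s) s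
    have hv := hfpf (k0 * x) (N.mul_mem (hKN hk0) x.2) (by rw [mul_smul]; exact e)
    by_cases hv1 : k0 * x = 1
    · rw [eq_inv_of_mul_eq_one_right hv1]
      exact K.inv_mem hk0
    have hf : MonoidHom.FixedPointFree (keyCj hnorm x) := fun k hk => by
      refine Subtype.ext ((hv k k.2 ?_).resolve_left hv1)
      have hk' : (x : Γ) * k * (x : Γ)⁻¹ = k := congrArg Subtype.val hk
      rw [mul_assoc, mul_inv_eq_iff_eq_mul.1 hk', ← mul_assoc, hcomm _ hk0 _ k.2, mul_assoc]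
    refine absurd (Subtype.ext (funext fun k => ?_)) hl
    obtain ⟨z, rfl⟩ := hf.commutatorMap_surjective k
    obtain ⟨lam, hlam⟩ := l.2.exists_monoidHom_of_comm hKc
    have e1 : (l : K → ℂ) (keyCj hnorm x z) = (l : K → ℂ) z :=
      congrFun (congrArg Subtype.val h) z
    rw [hlam] at e1 ⊢
    simp only [MonoidHom.commutatorMap_apply, map_div, Units.val_inj.1 e1, div_self', oneK,
      Units.val_one]
  have hst : ∀ l, l ≠ oneK → ∑ x : N, classInner (l : K → ℂ) (tw x l : K → ℂ) = Nat.card K :=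
    fun l hl => by
    simp only [classInner_irr, eq_comm (a := l), hstab l hl, Finset.sum_boole]
    congr 1
    rw [← Fintype.card_subtype, ← Nat.card_eq_fintype_card]
    exact Nat.card_congr (Subgroup.subgroupOfEquivOfLe hKN).toEquiv
  have key : ∀ χ ∈ T, ∀ χ' ∈ T, χ ≠ χ' →
      (∀ g : Γ, (∀ x : Γ, x * g * x⁻¹ ∉ K) → (χ : Γ → ℂ) g = (χ' : Γ → ℂ) g) ∧
        (Nat.card K : ℂ) * (χ : Γ → ℂ) 1 = Nat.card N := fun χ hχ χ' hχ' hne => by
    obtain ⟨c1, n1⟩ := (memT χ).1 hχ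
    obtain ⟨c2, n2⟩ := (memT χ').1 hχ'
    obtain ⟨l, hl⟩ := hex χ
    obtain ⟨μ, hμ⟩ := hex χ'
    have l1 : l ≠ oneK := fun h => hl (h ▸ hU' _ _ _ n1.symm hone c1 hmone)
    have μ1 : μ ≠ oneK := fun h => hμ (h ▸ hU' _ _ _ n2.symm hone c2 hmone)
    have a1 := (hU _ _ c1 hl).2
    have a2 := (hU _ _ c2 hμ).2
    have a3 := hU' _ _ _ hne c1 c2 hl
    have a4 := hU' _ _ _ hne.symm c2 c1 hμ
    set α := indFun K ((l : K → ℂ) - μ) with hα
    have hres : (fun k : K => α k) =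
        (Nat.card K : ℂ)⁻¹ • ∑ x : N, ((tw x l : K → ℂ) - (tw x μ : K → ℂ)) := by
      ext k
      by_cases hk : k = 1
      · subst hk
        simp [hα, indFun_one, hl1]
      rw [hα, indFun_apply', Pi.smul_apply, smul_eq_mul, Finset.sum_apply,
        ← sum_extendByZero N fun x => ((tw x l : K → ℂ) - (tw x μ : K → ℂ)) k]
      congr 1
      refine Finset.sum_congr rfl fun x _ => ?_
      by_cases hx : x ∈ N
      · rw [extendByZero_of_mem _ _ hx, extendByZero_of_mem _ _ (hnorm x hx k k.2)]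
        rfl
      · rw [extendByZero_of_notMem _ _ hx, extendByZero_of_notMem _ _
          fun h => hx (hTI x k k.2 (fun e => hk (Subtype.ext e)) h)]
    have cross : ∀ (ψ : IrrCharacter Γ) a b, m ψ a = 0 → m ψ b = 1 → ∀ x,
        classInner (a : K → ℂ) (tw x b : K → ℂ) = 0 := fun ψ a b h0 h1 x => by
      rw [classInner_irr, if_neg]
      rintro rfl
      rw [htw] at h0
      omega
    have b1 : classInner α α = 2 := by
      rw [hα, classInner_indFun_left _ _ (indFun_isClassFunction _ _), ← hα, hres,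
        classInner_smul_right, classInner_sum_right]
      simp only [classInner_sub_left, classInner_sub_right, cross χ' l μ a3 a2,
        cross χ μ l a4 a1, sub_zero, zero_sub, sub_neg_eq_add, Finset.sum_add_distrib,
        hst l l1, hst μ μ1, map_inv₀, map_natCast]
      field_simp
      norm_num
    have b2 : classInner α (χ : Γ → ℂ) = 1 := by
      rw [hα, classInner_indFun_left _ _ χ.2.isClassFunction, classInner_sub_left, hm', hm', a1, a4]
      simp
    have b3 : classInner α (χ' : Γ → ℂ) = -1 := by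
      rw [hα, classInner_indFun_left _ _ χ'.2.isClassFunction, classInner_sub_left, hm', hm', a2,
        a3]
      simp
    have b2' : classInner (χ : Γ → ℂ) α = 1 := by rw [← conj_classInner, b2, map_one]
    have b3' : classInner (χ' : Γ → ℂ) α = -1 := by rw [← conj_classInner, b3, map_neg, map_one]
    have b4 : α = (χ : Γ → ℂ) - χ' := by
      rw [← sub_eq_zero, ← classInner_self_eq_zero]
      simp only [classInner_sub_left, classInner_sub_right, b1, b2, b3, b2', b3', classInner_irr,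
        if_neg hne, if_neg hne.symm, if_true]
      norm_num
    refine ⟨fun g hg => ?_, ?_⟩
    · rw [← sub_eq_zero, ← Pi.sub_apply, ← b4, hα]
      exact indFun_eq_zero_of_not_conj _ _ hg
    · have e1 : classInner (fun k : K => α k) (fun k : K => (χ : Γ → ℂ) k) =
          (Nat.card K : ℂ)⁻¹ * Nat.card N := by
        rw [hres, classInner_smul_left, classInner_sum_left]
        simp [classInner_sub_left, hm', htw, a1, a4]
      have e2 : classInner (fun k : K => α k) (fun k : K => (χ : Γ → ℂ) k) = (χ : Γ → ℂ) 1 := by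
        have e3 := (χ.2.isClassFunction.res K).apply_eq_sum_irr 1
        rw [((indFun_isClassFunction K _).res K).classInner_eq_sum_irr]
        refine Eq.trans (Finset.sum_congr rfl fun ν _ => ?_) e3.symm
        rw [← hα, b4, hl1, hm, hm']
        have : (fun k : K => ((χ : Γ → ℂ) - χ') k) =
            (fun k : K => (χ : Γ → ℂ) k) - fun k : K => (χ' : Γ → ℂ) k := rfl
        rw [this, classInner_sub_left, hm, hm]
        by_cases h : m χ ν = 0
        · simp [h]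
        · simp [(hU _ _ c1 h).2, hU' _ _ _ hne c1 c2 h]
      rw [← e2, e1]
      field_simp
  obtain ⟨χ0, h0⟩ : T.Nonempty := Finset.card_pos.1 (by omega)
  refine ⟨T.card, hsq, ?_, fun g hg => ?_⟩
  · have e1 : ∀ χ ∈ T, (Nat.card K : ℂ) * (χ : Γ → ℂ) 1 = Nat.card N := fun χ hχ => by
      obtain ⟨χ', h1, h2⟩ := Finset.exists_mem_ne (not_le.1 hT) χ
      exact (key χ hχ χ' h1 h2.symm).2
    have e2 := congrArg ((Nat.card K : ℂ) * ·) (hπ 1)
    simp only [hπ1, mul_add, Finset.mul_sum] at e2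
    rw [Finset.sum_congr rfl e1, Finset.sum_const, nsmul_eq_mul, mul_one] at e2
    have e3 : Nat.card K * Nat.card K = Nat.card K + T.card * Nat.card N := by exact_mod_cast e2
    rw [Nat.sub_mul, e3]
    omega
  · by_contra hcon
    have : IsEmpty (fixedBy X g) := ⟨fun y => hcon ⟨y, y.2⟩⟩
    have e1 := hπ g
    rw [Finset.sum_congr rfl (g := fun _ => (χ0 : Γ → ℂ) g) fun χ hχ => by
      by_cases h : χ = χ0
      · rw [h]
      · exact (key χ hχ χ0 h0 h).1 g hg, Finset.sum_const, nsmul_eq_mul] at e1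
    simp only [π, Nat.card_of_isEmpty, Nat.cast_zero] at e1
    have hT0 : (T.card : ℂ) ≠ 0 := by exact_mod_cast (by omega : T.card ≠ 0)
    have e2 : (χ0 : Γ → ℂ) g = ((-1 : ℤ) : ℂ) / ((T.card : ℤ) : ℂ) := by
      push_cast
      field_simp
      linear_combination -e1
    have := int_dvd_of_isIntegral_div (a := -1) (b := T.card) (by omega)
      (e2 ▸ IsCharacter_isIntegral χ0.2.isCharacter g)
    have := Int.le_of_dvd one_pos (Int.dvd_neg.1 this)
    omega

theorem keyChar' [Finite Γ] (K N : Subgroup Γ) (hKN : K ≤ N)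
    (hcomm : ∀ a ∈ K, ∀ b ∈ K, a * b = b * a) (hreg : ∀ x y : X, ∃! k, k ∈ K ∧ k • x = y) (s : X)
    (hK : K ≠ ⊥) (hnorm : ∀ n ∈ N, ∀ k ∈ K, n * k * n⁻¹ ∈ K)
    (hTI : ∀ g : Γ, ∀ k ∈ K, k ≠ 1 → g * k * g⁻¹ ∈ K → g ∈ N)
    (hfpf : ∀ v ∈ N, v • s = s → ∀ k ∈ K, v * k = k * v → v = 1 ∨ k = 1) :
    (∀ x y z w : X, x ≠ y → z ≠ w → ∃ g : Γ, g • x = z ∧ g • y = w) ∨
      ∀ g : Γ, ∃ n ∈ N, ∀ x : X, g • x = n • x := by
  have := Fintype.ofFinite Γ
  rcases keyChar_core' K N hKN hcomm hreg s hnorm hTI hfpf with h | ⟨n, h1, h2, h3⟩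
  · exact Or.inl (keyTwo h)
  · exact Or.inr (keyCount K N hKN hreg s hK hnorm hfpf n h1 h2 h3)

/-- The residual lemma in covering form. -/
theorem res_cover {H : Type*} [Group H] [Finite H]
    (hE : ∀ x y : H, x * x = 1 → y * y = 1 → x * y = y * x)
    (h4 : ∃ a b : H, a ≠ 1 ∧ a * a = 1 ∧ b ≠ 1 ∧ b * b = 1 ∧ a ≠ b) (K N : Subgroup H)
    (hKN : K ≤ N) (hcomm : ∀ a ∈ K, ∀ b ∈ K, a * b = b * a)
    (hnorm : ∀ n ∈ N, ∀ k ∈ K, n * k * n⁻¹ ∈ K)
    (hTI : ∀ g : H, ∀ k ∈ K, k ≠ 1 → g * k * g⁻¹ ∈ K → g ∈ N)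
    (hreg : ∀ u v : H, u ≠ 1 → u * u = 1 → v ≠ 1 → v * v = 1 → ∃! k, k ∈ K ∧ k * u * k⁻¹ = v)
    (hfpf : ∀ v ∈ N, ∀ s : H, s ≠ 1 → s * s = 1 → v * s = s * v → ∀ k ∈ K, v * k = k * v →
      v = 1 ∨ k = 1) (h : H) :
    ∃ n ∈ N, ∀ u : H, u * u = 1 → h * u * h⁻¹ = n * u * n⁻¹ := by
  let inst : MulAction H {u : H // u ≠ 1 ∧ u * u = 1} :=
    { smul := fun g u => ⟨g * u * g⁻¹, by simpa using u.2.1, LemX.conj_sq u.2.2 g⟩
      one_smul := fun u => Subtype.ext (by change 1 * u.1 * 1⁻¹ = u; simp)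
      mul_smul := fun g k u => Subtype.ext (by
        change g * k * u.1 * (g * k)⁻¹ = g * (k * u.1 * k⁻¹) * g⁻¹
        group) }
  have hs : ∀ (g : H) (u v : {u : H // u ≠ 1 ∧ u * u = 1}), g • u = v ↔ g * u * g⁻¹ = v :=
    fun _ _ _ => Subtype.ext_iff
  obtain ⟨a, b, a1, a2, b1, b2, hab⟩ := id h4
  rcases keyChar' (X := {u : H // u ≠ 1 ∧ u * u = 1}) K N hKN hcomm
    (fun x y => by simpa only [hs] using hreg x y x.2.1 x.2.2 y.2.1 y.2.2) ⟨a, a1, a2⟩
    (by
      rintro rfl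
      obtain ⟨k, ⟨hk, e⟩, -⟩ := hreg a b a1 a2 b1 b2
      rw [Subgroup.mem_bot.1 hk] at e
      exact hab (by simpa using e)) hnorm hTI
    (fun v hv e => hfpf v hv a a1 a2 (mul_inv_eq_iff_eq_mul.1 ((hs _ _ _).1 e))) with h2 | h2
  · refine (lemmaX hE h4 fun a b c d a1 a2 b1 b2 c1 c2 d1 d2 h1 h3 => ?_).elim
    simpa only [hs] using h2 ⟨a, a1, a2⟩ ⟨b, b1, b2⟩ ⟨c, c1, c2⟩ ⟨d, d1, d2⟩
      (fun e => h1 (congrArg Subtype.val e)) (fun e => h3 (congrArg Subtype.val e))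
  · obtain ⟨n, hn, e⟩ := h2 h
    refine ⟨n, hn, fun u hu => ?_⟩
    by_cases h1 : u = 1
    · simp [h1]
    · exact congrArg Subtype.val (e ⟨u, h1, hu⟩)

end Cfsg.Lib.Bender
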