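import Mathlib.GroupTheory.GroupAction.Quotient
import Mathlib.GroupTheory.Complement
import Mathlib.GroupTheory.Index
import Mathlib.Tactic

/-!
Counting half of the character lemma on transitive groups with a regular abelian TI-subgroup.
-/

set_option autoImplicit false

namespace Cfsg.Lib.Bender

open MulAction

variable {Γ X : Type*} [Group Γ] [Fintype Γ] [MulAction Γ X] [Finite X]

theorem keySum (Y : Type*) [MulAction Γ Y] [Finite Y] :
    ∑ g : Γ, Nat.card (fixedBy Y g) = Nat.card (orbitRel.Quotient Γ Y) * Nat.card Γ := by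
  classical
  have := Fintype.ofFinite Y
  have := Fintype.ofFinite (orbitRel.Quotient Γ Y)
  simp only [Nat.card_eq_fintype_card]
  exact sum_card_fixedBy_eq_card_orbits_mul_card_group Γ Y

theorem keyTwo (h : ∑ g : Γ, Nat.card (fixedBy X g) ^ 2 ≤ 2 * Nat.card Γ) (x y z w : X)
    (hxy : x ≠ y) (hzw : z ≠ w) : ∃ g : Γ, g • x = z ∧ g • y = w := by
  have h1 : ∀ g : Γ, Nat.card (fixedBy (X × X) g) = Nat.card (fixedBy X g) ^ 2 := fun g => by
    rw [pow_two, ← Nat.card_prod]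
    exact Nat.card_congr
      { toFun := fun p => (⟨p.1.1, congrArg Prod.fst p.2⟩, ⟨p.1.2, congrArg Prod.snd p.2⟩)
        invFun := fun p => ⟨(p.1.1, p.2.1), Prod.ext p.1.2 p.2.2⟩
        left_inv := fun _ => rfl
        right_inv := fun _ => rfl }
  have h2 := keySum (Γ := Γ) (X × X)
  simp only [h1] at h2
  rw [h2] at h
  have h3 : Nat.card (orbitRel.Quotient Γ (X × X)) ≤ 2 :=
    Nat.le_of_mul_le_mul_right h Nat.card_pos
  by_contra hne
  have hd : ∀ a b : X, a ≠ b → (Quotient.mk'' (x, x) : orbitRel.Quotient Γ (X × X)) ≠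
      Quotient.mk'' (a, b) := fun a b hab e => by
    obtain ⟨g, hg⟩ := Quotient.exact' e
    exact hab (MulAction.injective g ((congrArg Prod.fst hg).trans (congrArg Prod.snd hg).symm))
  have h4 : (Quotient.mk'' (z, w) : orbitRel.Quotient Γ (X × X)) ≠ Quotient.mk'' (x, y) :=
    fun e => by
    obtain ⟨g, hg⟩ := Quotient.exact' e
    exact hne ⟨g, congrArg Prod.fst hg, congrArg Prod.snd hg⟩
  have h5 : Function.Injective (![Quotient.mk'' (x, x), Quotient.mk'' (z, w),
      Quotient.mk'' (x, y)] : Fin 3 → orbitRel.Quotient Γ (X × X)) := by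
    have a1 := hd z w hzw
    have a2 := hd x y hxy
    intro i j
    fin_cases i <;> fin_cases j <;> simp [a1, a2, h4, a1.symm, a2.symm, h4.symm]
  have := Nat.card_le_card_of_injective _ h5
  simp at this
  omega

theorem keyCount (K N : Subgroup Γ) (hKN : K ≤ N)
    (hreg : ∀ x y : X, ∃! k, k ∈ K ∧ k • x = y) (s : X) (hK : K ≠ ⊥)
    (hnorm : ∀ n ∈ N, ∀ k ∈ K, n * k * n⁻¹ ∈ K)
    (hfpf : ∀ v ∈ N, v • s = s → ∀ k ∈ K, v * k = k * v → v = 1 ∨ k = 1) (n : ℕ)
    (hsq : ∑ g : Γ, Nat.card (fixedBy X g) ^ 2 = (1 + n) * Nat.card Γ)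
    (hn : (Nat.card K - 1) * Nat.card K ≤ n * Nat.card N)
    (hfix : ∀ g : Γ, (∀ x : Γ, x * g * x⁻¹ ∉ K) → ∃ y : X, g • y = y) (g : Γ) :
    ∃ n ∈ N, ∀ x : X, g • x = n • x := by
  classical
  have hfree : ∀ k ∈ K, ∀ x : X, k • x = x → k = 1 := fun k hk x hx =>
    (hreg x x).unique ⟨hk, hx⟩ ⟨K.one_mem, one_smul _ _⟩
  have hq : Nat.card X = Nat.card K := (Nat.card_congr (Equiv.ofBijective
    (fun k : K => (k : Γ) • s) ⟨fun k k' h => Subtype.ext
      ((hreg s _).unique ⟨k.2, h⟩ ⟨k'.2, rfl⟩), fun x => by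
        obtain ⟨k, ⟨hk, e⟩, -⟩ := hreg s x
        exact ⟨⟨k, hk⟩, e⟩⟩)).symm
  have hq1 : 1 < Nat.card K := (Subgroup.one_lt_card_iff_ne_bot K).2 hK
  have h1 : ∑ g : Γ, Nat.card (fixedBy X g) = Nat.card Γ := by
    rw [keySum]
    have : Nat.card (orbitRel.Quotient Γ X) = 1 := by
      rw [Nat.card_eq_one_iff_exists]
      refine ⟨Quotient.mk'' s, fun y => ?_⟩
      induction y using Quotient.inductionOn' with
      | h y =>
        obtain ⟨k, ⟨-, e⟩, -⟩ := hreg s y
        exact Quotient.sound' ⟨k, e⟩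
    rw [this, one_mul]
  set F : Γ → ℕ := fun g => Nat.card (fixedBy X g) with hF
  set q := Nat.card K with hqd
  let S : Finset Γ := Finset.univ.filter fun g => g ≠ 1 ∧ ∃ x : Γ, x * g * x⁻¹ ∈ K
  have hS0 : ∀ g ∈ S, F g = 0 := fun g hg => by
    obtain ⟨g1, x, hx⟩ := (Finset.mem_filter.1 hg).2
    have : IsEmpty (fixedBy X g) := ⟨fun y => g1 (by
      have := hfree _ hx (x • y.1) (by rw [mul_smul, mul_smul, inv_smul_smul, y.2])
      simpa using this)⟩
    exact Nat.card_of_isEmpty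
  have hS1 : ∀ g ∉ S, 1 ≤ F g := fun g hg => by
    have : Nonempty (fixedBy X g) := by
      by_cases g1 : g = 1
      · exact ⟨⟨s, by rw [g1]; exact one_smul _ _⟩⟩
      · obtain ⟨y, hy⟩ := hfix g fun x hx => hg (Finset.mem_filter.2 ⟨Finset.mem_univ _, g1, x, hx⟩)
        exact ⟨⟨y, hy⟩⟩
    exact Nat.card_pos
  have hFq : ∀ g, F g ≤ q := fun g =>
    hq ▸ Nat.card_le_card_of_injective (Subtype.val : fixedBy X g → X) Subtype.val_injective
  have hScard : S.card * Nat.card N ≤ Nat.card Γ * (q - 1) := by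
    have hc : ∀ g : S, ∃ x : Γ, x * g * x⁻¹ ∈ K := fun g => (Finset.mem_filter.1 g.2).2.2
    choose c hc using hc
    have := Nat.card_le_card_of_injective
      (fun p : S × N => ((p.2 * c p.1, ⟨⟨p.2 * (c p.1 * p.1 * (c p.1)⁻¹) * (p.2 : Γ)⁻¹,
        hnorm _ p.2.2 _ (hc p.1)⟩, fun h => (Finset.mem_filter.1 p.1.2).2.1 (by
          simpa using congrArg Subtype.val h)⟩) : Γ × {k : K // k ≠ 1})) (by
      rintro ⟨g, m⟩ ⟨g', m'⟩ h
      simp only [Prod.mk.injEq, Subtype.mk.injEq] at h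
      obtain ⟨e1, e2⟩ := h
      have e3 : g = g' := Subtype.ext (by
        calc (g : Γ) = (m * c g)⁻¹ * (m * (c g * g * (c g)⁻¹) * (m : Γ)⁻¹) * (m * c g) := by group
          _ = g' := by rw [e2, e1]; group)
      subst e3
      rw [Subtype.ext (mul_right_cancel e1 : (m : Γ) = m')])
    rw [Nat.card_prod, Nat.card_prod, Nat.card_eq_finsetCard] at this
    rw [show q - 1 = Nat.card {k : K // k ≠ 1} by
      rw [hqd, Nat.card_eq_fintype_card, Nat.card_eq_fintype_card, Fintype.card_subtype_compl,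
        Fintype.card_subtype_eq]]
    exact this
  have hN0 : 0 < Nat.card N := Nat.card_pos
  have hqS : q * S.card ≤ n * Nat.card Γ := by
    apply Nat.le_of_mul_le_mul_right _ hN0
    calc q * S.card * Nat.card N = q * (S.card * Nat.card N) := by ring
      _ ≤ q * (Nat.card Γ * (q - 1)) := Nat.mul_le_mul_left _ hScard
      _ = (q - 1) * q * Nat.card Γ := by ring
      _ ≤ n * Nat.card N * Nat.card Γ := Nat.mul_le_mul_right _ hn
      _ = _ := by ring
  have hΓ : (Finset.univ : Finset Γ).card = Nat.card Γ := by simp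
  have z1 : ∑ g : Γ, (F g : ℤ) = Nat.card Γ := by exact_mod_cast h1
  have z2 : ∑ g : Γ, (F g : ℤ) ^ 2 = (1 + n) * Nat.card Γ := by exact_mod_cast hsq
  have t1 : ∑ g : Γ, ((F g : ℤ) - 1) * (q - F g) = -n * Nat.card Γ := by
    have : ∀ g, ((F g : ℤ) - 1) * (q - F g) = (1 + q) * F g - (F g : ℤ) ^ 2 - q := fun g => by ring
    simp only [this, Finset.sum_sub_distrib, ← Finset.mul_sum, z1, z2, Finset.sum_const, hΓ,
      nsmul_eq_mul]
    ring
  have t2 : ∑ g ∈ S, ((F g : ℤ) - 1) * (q - F g) = -q * S.card := by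
    rw [Finset.sum_congr rfl (g := fun _ => (-q : ℤ)) fun g hg => by rw [hS0 g hg]; simp]
    simp [mul_comm]
  have t3 : ∀ g ∈ Sᶜ, 0 ≤ ((F g : ℤ) - 1) * (q - F g) := fun g hg =>
    mul_nonneg (by have := hS1 g (Finset.mem_compl.1 hg); omega) (by have := hFq g; omega)
  rw [← Finset.sum_add_sum_compl S, t2] at t1
  have hqS' : (q : ℤ) * S.card ≤ n * Nat.card Γ := by exact_mod_cast hqS
  have t4 : ∑ g ∈ Sᶜ, ((F g : ℤ) - 1) * (q - F g) = 0 :=
    le_antisymm (by linarith) (Finset.sum_nonneg t3)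
  have t5 := (Finset.sum_eq_zero_iff_of_nonneg t3).1 t4
  let Z : Subgroup Γ := (MulAction.toPermHom Γ X).ker
  have memZ : ∀ g, g ∈ Z ↔ ∀ x : X, g • x = x := fun g => by
    simp [Z, Equiv.ext_iff]
  have t6 : ∀ g ∈ Sᶜ, (F g : ℤ) - 1 ≤ if g ∈ Z then (q : ℤ) - 1 else 0 := fun g hg => by
    split_ifs with h
    · have := hFq g; omega
    · rcases mul_eq_zero.1 (t5 g hg) with e | e
      · exact e.le
      · refine absurd ((memZ g).2 fun x => ?_) h
        have e' : (fixedBy X g).ncard = (Set.univ : Set X).ncard := by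
          rw [Set.ncard_univ, hq, ← Nat.card_coe_set_eq]
          have : F g = q := by omega
          exact this
        have := Set.eq_of_subset_of_ncard_le (Set.subset_univ (fixedBy X g)) e'.ge
        exact (this ▸ Set.mem_univ x : x ∈ fixedBy X g)
  have t7 : (S.card : ℤ) ≤ (q - 1) * Nat.card Z := by
    have a1 : ∑ g : Γ, ((F g : ℤ) - 1) = 0 := by
      simp [Finset.sum_sub_distrib, z1]
    have a2 : ∑ g ∈ S, ((F g : ℤ) - 1) = -S.card := by
      rw [Finset.sum_congr rfl (g := fun _ => (-1 : ℤ)) fun g hg => by rw [hS0 g hg]; simp]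
      simp
    rw [← Finset.sum_add_sum_compl S, a2] at a1
    have a3 := Finset.sum_le_sum t6
    have a4 : ∑ g ∈ Sᶜ, (if g ∈ Z then (q : ℤ) - 1 else 0) ≤
        ∑ g : Γ, (if g ∈ Z then (q : ℤ) - 1 else 0) :=
      Finset.sum_le_sum_of_subset_of_nonneg (Finset.subset_univ _) fun g _ _ => by
        split_ifs <;> omega
    have a5 : ∑ g : Γ, (if g ∈ Z then (q : ℤ) - 1 else 0) = (q - 1) * Nat.card Z := by
      rw [← Finset.sum_filter, Finset.sum_const, nsmul_eq_mul, mul_comm,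
        Nat.card_eq_fintype_card, Fintype.card_subtype]
    linarith
  have hn0 : 0 < n := by
    rcases Nat.eq_zero_or_pos n with h | h
    · rw [h, zero_mul, Nat.le_zero, mul_eq_zero] at hn
      omega
    · exact h
  have t8 : Nat.card Γ ≤ Nat.card N * Nat.card Z := by
    have hn' : ((q : ℤ) - 1) * q ≤ n * Nat.card N := by
      have : ((q - 1 : ℕ) : ℤ) = q - 1 := by omega
      rw [← this]; exact_mod_cast hn
    have b1 : (n : ℤ) * Nat.card Γ ≤ n * (Nat.card N * Nat.card Z) := by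
      calc (n : ℤ) * Nat.card Γ = q * S.card := by linarith
        _ ≤ q * ((q - 1) * Nat.card Z) := mul_le_mul_of_nonneg_left t7 (by positivity)
        _ = (q - 1) * q * Nat.card Z := by ring
        _ ≤ n * Nat.card N * Nat.card Z := mul_le_mul_of_nonneg_right hn' (by positivity)
        _ = _ := by ring
    exact_mod_cast le_of_mul_le_mul_left b1 (by exact_mod_cast hn0)
  have hNZ : ∀ v ∈ N, v ∈ Z → v = 1 := fun v hv hz => by
    obtain ⟨⟨k, hk⟩, hk1⟩ := Subgroup.ne_bot_iff_exists_ne_one.1 hK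
    have hz' := (memZ v).1 hz
    have : v * k * v⁻¹ = k := (hreg s (k • s)).unique ⟨hnorm v hv k hk, by
      rw [mul_smul, mul_smul, inv_smul_eq_iff.2 (hz' s).symm, hz']⟩ ⟨hk, rfl⟩
    exact (hfpf v hv (hz' s) k hk (mul_inv_eq_iff_eq_mul.1 this)).resolve_right
      fun h => hk1 (Subtype.ext h)
  have hinj : Function.Injective (fun p : N × Z => (p.1 : Γ) * p.2) := by
    rintro ⟨m, z⟩ ⟨m', z'⟩ h
    have h : (m : Γ) * z = m' * z' := h
    have e : (m' : Γ)⁻¹ * m = z' * (z : Γ)⁻¹ := by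
      calc _ = (m' : Γ)⁻¹ * (m * z) * (z : Γ)⁻¹ := by group
        _ = _ := by rw [h]; group
    have e1 := hNZ _ (N.mul_mem (N.inv_mem m'.2) m.2) (e ▸ Z.mul_mem z'.2 (Z.inv_mem z.2))
    rw [e1] at e
    exact Prod.ext (Subtype.ext (inv_mul_eq_one.1 e1).symm)
      (Subtype.ext (mul_inv_eq_one.1 e.symm).symm)
  obtain ⟨⟨m, z⟩, rfl⟩ := (hinj.bijective_of_nat_card_le (by rwa [Nat.card_prod])).2 g
  exact ⟨m, m.2, fun x => by rw [mul_smul, (memZ z).1 z.2]⟩

end Cfsg.Lib.Bender
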